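import Groth.Agent.Neron.K217.FinDisj
import Groth.Agent.Neron.K531.Defs
import Groth.Agent.Neron.K488.PsiInj
import Groth.Agent.Pic13.H520.InjAA
import Groth.Agent.PicF.K247.GrpZero

/-!
# Points of the sheafified `Pic⁰` of a disjoint union of geometrically integral schemes with rational points are classes

`f : X ⟶ Spec L` proper, `h : Comps f`, `(P, φ)` representing the fppf sheafification of `Pic⁰`.

* `exists_rig` : every `T`-valued point of `P` is the image of a class of `Pic⁰` on `X × T`, rigidified on all components;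
* `exists_class` : the case `T = Spec F`.
-/

set_option autoImplicit false
universe u

open CategoryTheory CategoryTheory.Limits AlgebraicGeometry TopologicalSpace Opposite
open Groth.Agent Groth.Agent.Grpsch Groth.Agent.Grpsch.PicGrp
open Groth.Agent.Fga.RigGrp (Rg mem_Rg pull_mem toCl toCl_injective toCl_pull secT_XTproj secT_XTmap XTmap_comp
  XTmap_XTproj)
open Groth.Agent.Pic13.H602.Rig (Inj)
open Groth.Agent.Pic13.H965.Kill (bc bc_XTmap rs)
open Groth.Agent.Pic13.H520.InjAA (isOpenImmersion_bc mem_range_bc inj_of_connected)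
open K530.PicZero K531.Defs K732.Cov

namespace K217.CompsClass

variable {L : Type u} [Field L] {X : Scheme.{u}} {f : X ⟶ Spec (CommRingCat.of L)} (h : Comps f)

theorem isClosed_range (a : h.ι) : IsClosed (Set.range (h.j a)) := by
  have := h.isOpenImmersion
  have h1 : Set.range (h.j a) = (⋃ b : {b // b ≠ a}, Set.range (h.j b.1))ᶜ := by
    ext x
    constructor
    · intro hx hx'
      obtain ⟨b, hb⟩ := Set.mem_iUnion.1 hx'
      exact Set.disjoint_left.1 (h.disjoint b.1 a b.2) hb hx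
    · intro hx
      obtain ⟨b, hb⟩ := h.cover x
      by_cases hba : b = a
      · rwa [← hba]
      · exact absurd (Set.mem_iUnion.2 ⟨⟨b, hba⟩, hb⟩) hx
  rw [h1, isClosed_compl_iff]
  exact isOpen_iUnion fun b => (h.j b.1).opensRange.isOpen

/-- The restriction to a component. -/
noncomputable abbrev rsC (a : h.ι) (T : Over (Spec (CommRingCat.of L))) :
    Pic (PicF.XT f T) →* Pic (PicF.XT (h.j a ≫ f) T) := pull (bc (rfl : h.j a ≫ f = h.j a ≫ f) T)

theorem rsC_pull (a : h.ι) {T T' : Over (Spec (CommRingCat.of L))} (g : T' ⟶ T) (c : Pic (PicF.XT f T)) :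
    rsC h a T' (pull (PicF.XTmap f g) c) = pull (PicF.XTmap (h.j a ≫ f) g) (rsC h a T c) := by
  rw [rsC, ← pull_comp, bc_XTmap, pull_comp]

/-- The classes rigidified on all components. -/
def RgC (T : Over (Spec (CommRingCat.of L))) (c : Pic (PicF.XT f T)) : Prop :=
  ∀ a, rsC h a T c ∈ Rg (h.j a ≫ f) (h.pt a) (h.pt_comp a) T

variable {h} in
theorem RgC.pull {T T' : Over (Spec (CommRingCat.of L))} (g : T' ⟶ T) {c : Pic (PicF.XT f T)} (hc : RgC h T c) :
    RgC h T' (pull (PicF.XTmap f g) c) := fun a => by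
  rw [rsC_pull]
  exact pull_mem g (hc a)

/-- A class on `X × T` is determined by its restrictions to the components. -/
theorem ext_rsC {T : Over (Spec (CommRingCat.of L))} {c c' : Pic (PicF.XT f T)} (hcc : ∀ a, rsC h a T c = rsC h a T c') :
    c = c' := by
  have := h.isOpenImmersion
  have ho : ∀ a, IsOpenImmersion (bc (rfl : h.j a ≫ f = h.j a ≫ f) T) := fun a => isOpenImmersion_bc rfl T
  refine Pic13.H953.PicDisj.eq_of_pull (fun a => bc (rfl : h.j a ≫ f = h.j a ≫ f) T) (fun a b hab => ?_)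
    (fun z => ?_) hcc
  · rw [Set.disjoint_left]
    intro z hz hz'
    exact Set.disjoint_left.1 (h.disjoint a b hab) ((mem_range_bc rfl T z).1 hz) ((mem_range_bc rfl T z).1 hz')
  · obtain ⟨a, ha⟩ := h.cover (pullback.fst f T.hom z)
    exact ⟨a, (mem_range_bc rfl T z).2 ha⟩

/-- Classes on the components come from a class on `X × T`. -/
theorem exists_rsC {T : Over (Spec (CommRingCat.of L))} (r : ∀ a, Pic (PicF.XT (h.j a ≫ f) T)) :
    ∃ c : Pic (PicF.XT f T), ∀ a, rsC h a T c = r a := by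
  have := h.isOpenImmersion
  have := h.finite
  have ho : ∀ a, IsOpenImmersion (bc (rfl : h.j a ≫ f = h.j a ≫ f) T) := fun a => isOpenImmersion_bc rfl T
  refine FinDisj.exists_glue_class (fun a => bc (rfl : h.j a ≫ f = h.j a ≫ f) T) (fun a b hab => ?_)
    (fun z => ?_) r
  · rw [Set.disjoint_left]
    intro z hz hz'
    exact Set.disjoint_left.1 (h.disjoint a b hab) ((mem_range_bc rfl T z).1 hz) ((mem_range_bc rfl T z).1 hz')
  · obtain ⟨a, ha⟩ := h.cover (pullback.fst f T.hom z)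
    exact ⟨a, (mem_range_bc rfl T z).2 ha⟩

variable [IsProper f]

theorem inj (a : h.ι) : Inj (h.j a ≫ f) (h.pt a) := by
  have := h.isOpenImmersion a
  have := h.geometricallyIntegral a
  have hc : IsClosedImmersion (h.j a) := IsClosedImmersion.of_isPreimmersion _ (isClosed_range h a)
  have hi : IsIntegral (h.D a) := GeometricallyIntegral.isIntegral_of_subsingleton (h.j a ≫ f)
  exact inj_of_connected _ _

/-- Separatedness of the rigidified classes. -/
theorem eq_of_cov {T : Over (Spec (CommRingCat.of L))} (𝒰 : FCov T) {c c' : Pic (PicF.XT f T)} (hc : RgC h T c)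
    (hc' : RgC h T c') (hcc : ∀ i, pull (PicF.XTmap f (𝒰.j i)) c = pull (PicF.XTmap f (𝒰.j i)) c') : c = c' := by
  refine ext_rsC h fun a => K488.RigFpqc.eq_of_cover (h.pt_comp a) (inj h a) 𝒰.mem_fpqc (hc a) (hc' a) fun i => ?_
  rw [← rsC_pull, ← rsC_pull, hcc]

/-- Gluing of the rigidified classes. -/
theorem exists_glue {T : Over (Spec (CommRingCat.of L))} (𝒰 : FCov T) (c : ∀ i, Pic (PicF.XT f (𝒰.V i)))
    (hc : ∀ i, RgC h _ (c i))
    (hcc : ∀ (i k : 𝒰.ι) (W : Over (Spec (CommRingCat.of L))) (a : W ⟶ 𝒰.V i) (b : W ⟶ 𝒰.V k),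
      a ≫ 𝒰.j i = b ≫ 𝒰.j k → pull (PicF.XTmap f a) (c i) = pull (PicF.XTmap f b) (c k)) :
    ∃ d, RgC h T d ∧ ∀ i, pull (PicF.XTmap f (𝒰.j i)) d = c i := by
  choose r hr hrc using fun a => K488.RigFpqc.exists_glue (h.pt_comp a) (inj h a) 𝒰.mem_fpqc
    (fun i => rsC h a _ (c i)) (fun i => hc i a) (fun i k W s t hst => by
      rw [← rsC_pull, ← rsC_pull, hcc i k W s t hst])
  obtain ⟨d, hd⟩ := exists_rsC h r
  refine ⟨d, fun a => by rw [hd]; exact hr a, fun i => ext_rsC h fun a => ?_⟩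
  rw [rsC_pull, hd, hrc]

variable {P : Over (Spec (CommRingCat.of L))}
  {φ : ∀ T : Over (Spec (CommRingCat.of L)), PicF.Cl (PicF.XT f T) → (T ⟶ P)}
  (hP : AbDual.IsRelPicZeroK Scheme.fppfPrecoverage f P φ)

include hP

omit [IsProper f] in
theorem phi_pull {T T' : Over (Spec (CommRingCat.of L))} (g : T' ⟶ T) {c : Pic (PicF.XT f T)}
    (hc : FibZero (PicF.XTproj f T) c) : φ T' (toCl (pull (PicF.XTmap f g) c)) = g ≫ φ T (toCl c) := by
  rw [toCl_pull]
  exact hP.natural _ _ g _ ((isPicZeroCl_toCl_iff f _ _).2 hc)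

omit [IsProper f] hP in
/-- Classes are locally rigidified. -/
theorem exists_zar {T : Over (Spec (CommRingCat.of L))} (c : Pic (PicF.XT f T)) :
    ∃ 𝒰 : FCov T, ∀ i, RgC h _ (pull (PicF.XTmap f (𝒰.j i)) c) := by
  have := h.finite
  choose U hU hU' using fun t : T.left => K488.Psi.exists_open
    (fun a => pull (PicF.secT (h.j a ≫ f) (h.pt a) (h.pt_comp a) T) (rsC h a T c)) t
  refine ⟨zar U hU, fun t a => ?_⟩
  rw [mem_Rg, rsC_pull, ← pull_comp, secT_XTmap, pull_comp]
  exact hU' t a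

omit [IsProper f] in
/-- Points of `P` are locally rigidified classes. -/
theorem exists_cov {T : Over (Spec (CommRingCat.of L))} (y : T ⟶ P) :
    ∃ 𝒰 : FCov T, ∀ i, ∃ c : Pic (PicF.XT f (𝒰.V i)), FibZero (PicF.XTproj f (𝒰.V i)) c ∧
      φ _ (toCl c) = 𝒰.j i ≫ y ∧ RgC h _ c := by
  obtain ⟨𝒰, hU⟩ := K247.PicZeroIso.exists_cov_cl₀ hP y
  choose c₀ hc₀ hcg₀ using hU
  choose d hd using fun i => exists_toCl_of_isPicZeroCl f (hc₀ i)
  have hd0 : ∀ i, FibZero (PicF.XTproj f (𝒰.V i)) (d i) := fun i => by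
    rw [← isPicZeroCl_toCl_iff, hd i]
    exact hc₀ i
  choose 𝒱 h𝒱 using fun i => exists_zar h (d i)
  have h1 : ∀ i t, φ ((𝒱 i).V t) (toCl (pull (PicF.XTmap f ((𝒱 i).j t)) (d i))) = ((𝒱 i).j t ≫ 𝒰.j i) ≫ y :=
    fun i t => by rw [phi_pull hP _ (hd0 i), hd, hcg₀, Category.assoc]
  exact ⟨bind 𝒰 𝒱, fun p => ⟨pull (PicF.XTmap f ((𝒱 p.1).j p.2)) (d p.1),
    (hd0 p.1).pull _ _ (XTmap_XTproj f _), h1 p.1 p.2, h𝒱 p.1 p.2⟩⟩

/-- Rigidified classes are determined by their image in `P`. -/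
theorem eq_of_phi_eq {T : Over (Spec (CommRingCat.of L))} {c c' : Pic (PicF.XT f T)} (hc : RgC h T c)
    (hc' : RgC h T c') (h0 : FibZero (PicF.XTproj f T) c) (h0' : FibZero (PicF.XTproj f T) c')
    (he : φ T (toCl c) = φ T (toCl c')) : c = c' := by
  obtain ⟨R, hR, hloc⟩ := hP.locallyInjective T _ _ ((isPicZeroCl_toCl_iff f _ _).2 h0)
    ((isPicZeroCl_toCl_iff f _ _).2 h0') he
  obtain ⟨𝒰, hU⟩ := K732.Cov.exists_cov hR
    (fun V v => PicF.pullCl (PicF.XTmap f v) (toCl c) = PicF.pullCl (PicF.XTmap f v) (toCl c')) hloc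
  refine eq_of_cov h 𝒰 hc hc' fun i => toCl_injective ?_
  rw [toCl_pull, toCl_pull]
  exact hU i

/-- **Points of `P` are rigidified classes.** -/
theorem exists_rig (T : Over (Spec (CommRingCat.of L))) (y : T ⟶ P) :
    ∃ c : Pic (PicF.XT f T), RgC h T c ∧ FibZero (PicF.XTproj f T) c ∧ φ T (toCl c) = y := by
  obtain ⟨𝒰, hU⟩ := exists_cov h hP y
  choose c hc0 hcy hcr using hU
  obtain ⟨d, hd, hdc⟩ := exists_glue h 𝒰 c hcr fun i k W a b hab =>
    eq_of_phi_eq h hP ((hcr i).pull a) ((hcr k).pull b) ((hc0 i).pull _ _ (XTmap_XTproj f _))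
      ((hc0 k).pull _ _ (XTmap_XTproj f _)) (by
        rw [phi_pull hP _ (hc0 i), phi_pull hP _ (hc0 k), hcy, hcy, ← Category.assoc, ← Category.assoc, hab])
  have hd0 : FibZero (PicF.XTproj f T) d := K247.GrpZero.fibZero_of_cov f 𝒰 d fun i => by
    rw [hdc]
    exact hc0 i
  refine ⟨d, hd, hd0, 𝒰.hom_ext fun i => ?_⟩
  rw [← phi_pull hP _ hd0, hdc, hcy]

omit hP in
/-- **Points of `P` over fields are classes.** -/
theorem exists_class {L : Type u} [Field L] {X : Scheme.{u}} (f : X ⟶ Spec (CommRingCat.of L)) [IsProper f] (h : Comps f)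
    {P : Over (Spec (CommRingCat.of L))} {φ : ∀ T : Over (Spec (CommRingCat.of L)), PicF.Cl (PicF.XT f T) → (T ⟶ P)}
    (hP : AbDual.IsRelPicZeroK Scheme.fppfPrecoverage f P φ) {F : Type u} [Field F]
    (s : Spec (CommRingCat.of F) ⟶ Spec (CommRingCat.of L)) (y : Over.mk s ⟶ P) :
    ∃ c : Pic (PicF.XT f (Over.mk s)), FibZero (PicF.XTproj f (Over.mk s)) c ∧ φ (Over.mk s) (toCl c) = y := by
  obtain ⟨c, -, h1, h2⟩ := exists_rig h hP (Over.mk s) y
  exact ⟨c, h1, h2⟩

end K217.CompsClass
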