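import Groth.Agent.Pic13.H953.PicDisj

/-!
# Gluing modules and classes over a finite disjoint open covering

* `exists_glue` : modules on the members of a finite family of open immersions with disjoint images are the restrictions
  of a module;
* `exists_glue_class` : the same for classes of invertible modules if the family is a covering.
-/

set_option autoImplicit false
universe u

open CategoryTheory CategoryTheory.Limits AlgebraicGeometry TopologicalSpace

namespace K217.FinDisj

open Groth.Agent Groth.Agent.Fdesc.LocGen Groth.Agent.Grpsch.PicGrp Groth.Agent.Pic13.H138.Glue2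
  Groth.Agent.Flat2H.FamExt Groth.Agent.Flat2H.FamDict

variable {Y : Scheme.{u}}

theorem exists_glue' {ι : Type} [Fintype ι] {V : ι → Scheme.{u}} (j : ∀ i, V i ⟶ Y) [∀ i, IsOpenImmersion (j i)]
    (hd : ∀ i k, i ≠ k → Disjoint (Set.range (j i)) (Set.range (j k))) (N : ∀ i, (V i).Modules) :
    ∃ G : Y.Modules, ∀ i, Nonempty (G.restrict (j i) ≅ N i) := by
  classical
  have hfb : HasFiniteBiproducts Y.Modules := HasFiniteBiproducts.of_hasFiniteCoproducts
  let f : ι → Y.Modules := fun i => (Scheme.Modules.pushforward (j i)).obj (N i)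
  refine ⟨⨁ f, fun i => ?_⟩
  let R := Scheme.Modules.restrictFunctor (j i)
  have hR : R.Additive := ⟨rfl⟩
  have h1 : R.map (biproduct.π f i) ≫ R.map (biproduct.ι f i) = 𝟙 _ := by
    rw [← R.map_comp, ← R.map_id, ← biproduct.total (f := f), R.map_sum, Finset.sum_eq_single i]
    · intro k _ hk
      rw [R.map_comp]
      have hz : IsZero (R.obj (f k)) := isZero_restrict_push (j i) (j k) (hd i k hk.symm) (N k)
      rw [hz.eq_of_tgt (R.map (biproduct.π f k)) 0, zero_comp]
    · intro h
      exact absurd (Finset.mem_univ i) h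
  have h2 : R.map (biproduct.ι f i) ≫ R.map (biproduct.π f i) = 𝟙 _ := by
    rw [← R.map_comp, biproduct.ι_π_self, R.map_id]
  exact ⟨(Iso.mk (R.map (biproduct.π f i)) (R.map (biproduct.ι f i)) h1 h2) ≪≫
    (Scheme.Modules.restrictFunctorAdjCounitIso (j i)).app (N i)⟩

variable {ι : Type*} [Finite ι] {V : ι → Scheme.{u}} (j : ∀ i, V i ⟶ Y) [∀ i, IsOpenImmersion (j i)]

/-- Modules on disjoint opens are the restrictions of a module on `Y`. -/
theorem exists_glue (hd : ∀ i k, i ≠ k → Disjoint (Set.range (j i)) (Set.range (j k)))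
    (N : ∀ i, (V i).Modules) : ∃ G : Y.Modules, ∀ i, Nonempty (G.restrict (j i) ≅ N i) := by
  obtain ⟨n, ⟨e⟩⟩ := Finite.exists_equiv_fin ι
  obtain ⟨G, hG⟩ := exists_glue' (fun l => j (e.symm l))
    (fun i k hik => hd _ _ fun h => hik (e.symm.injective h)) (fun l => N (e.symm l))
  refine ⟨G, fun i => ?_⟩
  have h1 := hG (e i)
  rw [Equiv.symm_apply_apply] at h1
  exact h1

omit [Finite ι] in
theorem isInvertible_of_restrict (hc : ∀ y : Y, ∃ i, y ∈ Set.range (j i)) {G : Y.Modules}
    (h : ∀ i, PicF.IsInvertible (G.restrict (j i))) : PicF.IsInvertible G := by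
  rw [isInvertible_iff]
  intro y
  obtain ⟨i, w, rfl⟩ := hc y
  obtain ⟨W, e, hW, he⟩ := (isInvertible_iff _).1 (h i) w
  obtain ⟨m, rfl⟩ := (toRestrict (M := G) (j i) (U := W)).surjective e
  exact ⟨j i ''ᵁ W, m, ⟨w, hW, rfl⟩, (isGen_toRestrict_iff (j i) m).1 he⟩

/-- Gluing of classes. -/
theorem exists_glue_class (hd : ∀ i k, i ≠ k → Disjoint (Set.range (j i)) (Set.range (j k)))
    (hc : ∀ y : Y, ∃ i, y ∈ Set.range (j i)) (c : ∀ i, Pic (V i)) : ∃ d : Pic Y, ∀ i, pull (j i) d = c i := by
  choose M hM hMc using fun i => exists_mk (c i)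
  obtain ⟨G, hG⟩ := exists_glue j hd M
  have hGi : PicF.IsInvertible G := isInvertible_of_restrict j hc fun i => by
    obtain ⟨e⟩ := hG i
    exact isInvertible_iso e.symm (hM i)
  refine ⟨mk G hGi, fun i => ?_⟩
  obtain ⟨e⟩ := hG i
  rw [hMc i]
  exact (mk_eq_iff _ _).2 ⟨((Scheme.Modules.restrictFunctorIsoPullback (j i)).app _).symm ≪≫ e⟩

end K217.FinDisj
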